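import Groth.Agent.CIntLib.FibDepth
import Groth.Agent.H23.HartogsLine
import Groth.Agent.AlgSpDec.SchDenseFacts

/-!
# Restriction of sections of invertible modules along flat morphisms
-/

set_option autoImplicit false
set_option backward.isDefEq.respectTransparency false
set_option backward.isDefEq.respectTransparency.types false

universe u

open CategoryTheory AlgebraicGeometry TopologicalSpace Opposite TensorProduct IsLocalRing

namespace Groth.Agent.GrpSchRes

/-- The depth of a flat local algebra is at least the depth of the base. -/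
theorem depth_le_of_flat {R S : Type u} [CommRing R] [CommRing S] [IsLocalRing R] [IsLocalRing S]
    [IsNoetherianRing R] [IsNoetherianRing S] (φ : R →+* S) [IsLocalHom φ] (hfl : φ.Flat) :
    LocCoh.depth R R ≤ LocCoh.depth S S := by
  letI := φ.toAlgebra
  haveI : Module.Flat R S := hfl
  haveI : IsLocalHom (algebraMap R S) := ‹IsLocalHom φ›
  have h := S2062.result (R := R) (S := S) (M := R) (N := S)
  rw [FlatLoc6.depth_congr' (AlgebraTensorModule.rid R S S)] at h
  rw [h]
  exact le_self_add

theorem depth_ge_of_flat {X Y : Scheme.{u}} [IsLocallyNoetherian X] [IsLocallyNoetherian Y] (f : X ⟶ Y) [Flat f]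
    (x : X) {n : ℕ∞} (h : n ≤ LocCoh.depth (Y.presheaf.stalk (f x)) (Y.presheaf.stalk (f x))) :
    n ≤ LocCoh.depth (X.presheaf.stalk x) (X.presheaf.stalk x) :=
  h.trans (depth_le_of_flat (f.stalkMap x).hom (Flat.stalkMap f x))

open Groth.Agent.AModX Groth.Agent.InvX Groth.Agent.InvUfdLib in
/-- Sections of an invertible module are determined on a schematically dense open. -/
theorem res_injective_of_dense {X : Scheme.{u}} {U : X.Opens} {L : X.Modules} (hU : CInt.IsSchematicallyDense U)
    (hL : PicF.IsInvertible L) (W : X.Opens) : Function.Injective (res L (inf_le_left : W ⊓ U ≤ W)) := by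
  refine (injective_iff_map_eq_zero _).2 fun s hs => eq_of_locally _ _ fun p hp => ?_
  obtain ⟨V, hpV, e, he⟩ := InvX.exists_frame hL p
  refine ⟨W ⊓ V, inf_le_left, ⟨hp, hpV⟩, ?_⟩
  obtain ⟨c, hc⟩ := he.exists_coord inf_le_right (res L (inf_le_left : W ⊓ V ≤ W) s)
  rw [map_zero, hc]
  have h0 : c = 0 := by
    refine hU (W ⊓ V) ?_
    show resR inf_le_left c = resR inf_le_left 0
    rw [map_zero]
    refine he.coord_unique (inf_le_left.trans inf_le_right) ?_
    rw [zero_smul]
    have h := congrArg (res L (inf_le_left : W ⊓ V ⊓ U ≤ W ⊓ V)) hc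
    rw [res_res, res_smul, res_res] at h
    rw [← h]
    have h2 := congrArg (res L (inf_le_inf_right U inf_le_left : W ⊓ V ⊓ U ≤ W ⊓ U)) hs
    rw [res_res, map_zero] at h2
    exact h2
  rw [h0, zero_smul]

theorem isSchematicallyDense_preimage {X Y : Scheme.{u}} [IsLocallyNoetherian Y] (f : X ⟶ Y) [Flat f]
    {U : Y.Opens} (hU : CInt.IsSchematicallyDense U) : CInt.IsSchematicallyDense (f ⁻¹ᵁ U) :=
  AlgSpDec.SchDenseFacts.preimage_of_flat_qc f U hU fun W hW => by
    have := IsLocallyNoetherian.component_noetherian ⟨W, hW⟩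
    have := noetherianSpace_of_isAffineOpen W hW
    have h := @NoetherianSpace.isCompact (W : Set Y) _ this (Subtype.val ⁻¹' (U : Set Y))
    have h' := h.image continuous_subtype_val
    have e : Subtype.val '' (Subtype.val ⁻¹' (U : Set Y) : Set (W : Set Y)) = ((W ⊓ U : Y.Opens) : Set Y) := by
      rw [TopologicalSpace.Opens.coe_inf, Set.image_preimage_eq_inter_range, Subtype.range_coe, Set.inter_comm]
    rwa [e] at h'

end Groth.Agent.GrpSchRes
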